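import Mathlib

/-!
# A uniformizer with reduced special fibre separates the components
-/

set_option autoImplicit false
universe u

open IsLocalRing

namespace CompSemiLib

variable {L : Type u} [CommRing L] [IsLocalRing L] [IsNoetherianRing L] {t : L}

/-- If `t` generates the maximal ideal, primes avoiding `t` vanish. -/
theorem eq_bot_of_notMem (hm : Ideal.span {t} = maximalIdeal L) {P : Ideal L} [P.IsPrime] (htP : t ∉ P) :
    P = ⊥ := by
  refine Submodule.eq_bot_of_le_smul_of_le_jacobson_bot (Ideal.span {t}) P (IsNoetherian.noetherian P) ?_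
    (hm.le.trans (IsLocalRing.maximalIdeal_le_jacobson ⊥))
  intro p hp
  obtain ⟨a, rfl⟩ := Ideal.mem_span_singleton'.mp (hm.ge (IsLocalRing.le_maximalIdeal ‹P.IsPrime›.ne_top hp))
  rw [mul_comm, Ideal.smul_eq_mul]
  exact Ideal.mul_mem_mul (Ideal.mem_span_singleton_self t) ((‹P.IsPrime›.mem_or_mem hp).resolve_right htP)

/-- A component whose trace at the closed point is a point has `t` as uniformizer. -/
theorem span_eq_maximalIdeal (htm : t ∈ maximalIdeal L) (ht : IsSMulRegular L t) [IsReduced (L ⧸ Ideal.span {t})]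
    {P : Ideal L} (hP : P ∈ minimalPrimes L)
    (hQ : ∀ Q : Ideal L, Q.IsPrime → P ≤ Q → t ∈ Q → Q = maximalIdeal L) :
    Ideal.span {t} = maximalIdeal L := by
  haveI : P.IsPrime := hP.1.1
  obtain ⟨x, hx⟩ : ∃ x : L, ∀ a, a ∈ P ↔ a * x = 0 := by
    have h := Module.associatedPrimes.minimalPrimes_annihilator_subset_associatedPrimes L L
      (show P ∈ (Module.annihilator L L).minimalPrimes by rwa [Module.annihilator_eq_bot.mpr inferInstance])
    obtain ⟨-, x, hx⟩ := isAssociatedPrime_iff_exists_injective_linearMap P L |>.mp h |> fun ⟨h1, f, hf⟩ =>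
      (⟨h1, f (Ideal.Quotient.mk P 1), fun a => by
        rw [← smul_eq_mul, ← map_smul, ← map_zero f, hf.eq_iff]
        show a ∈ P ↔ Ideal.Quotient.mk P (a • 1) = 0
        rw [smul_eq_mul, mul_one, Ideal.Quotient.eq_zero_iff_mem]⟩ : _ ∧ ∃ x : L, ∀ a, a ∈ P ↔ a * x = 0)
    exact ⟨x, hx⟩
  have hx0 : x ≠ 0 := fun h => ‹P.IsPrime›.ne_top ((Ideal.eq_top_iff_one P).mpr ((hx 1).mpr (by rw [h, mul_zero])))
  obtain ⟨n, hn⟩ : ∃ n : ℕ, x ∉ Ideal.span {t} ^ (n + 1) := by
    by_contra hcon
    push Not at hcon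
    have h1 : x ∈ ⨅ n : ℕ, Ideal.span {t} ^ n := Submodule.mem_iInf _ |>.mpr fun n => by
      rcases n with _ | n
      · simp
      · exact hcon n
    rw [Ideal.iInf_pow_eq_bot_of_isLocalRing _ (fun h => (maximalIdeal.isMaximal L).ne_top
      (top_le_iff.mp (h.ge.trans ((Ideal.span_singleton_le_iff_mem _).mpr htm))))] at h1
    exact hx0 h1
  induction n using Nat.strong_induction_on generalizing x with
  | _ n ih =>
    by_cases hxt : x ∈ Ideal.span {t}
    · obtain ⟨x', rfl⟩ := Ideal.mem_span_singleton'.mp hxt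
      rcases n with _ | n
      · exact absurd (by simpa using hxt) hn
      refine ih n (Nat.lt_succ_self n) x' (fun a => ?_) (fun h => hx0 (by rw [h, zero_mul])) fun h => hn ?_
      · rw [hx a, ← mul_assoc]
        exact ⟨fun h => ht (by simpa [smul_eq_mul, mul_comm] using h), fun h => by rw [h, zero_mul]⟩
      · rw [pow_succ]
        exact Ideal.mul_mem_mul h (Ideal.mem_span_singleton_self t)
    · have key : ∀ a ∈ maximalIdeal L, a * x ∈ Ideal.span {t} := by
        intro a ha
        have hrad : a ∈ (P ⊔ Ideal.span {t}).radical := by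
          rw [Ideal.radical_eq_sInf, Submodule.mem_sInf]
          rintro Q ⟨hle, hQp⟩
          rw [hQ Q hQp (le_sup_left.trans hle) (hle (le_sup_right (a := P) (Ideal.mem_span_singleton_self t)))]
          exact ha
        obtain ⟨m, hm⟩ := hrad
        obtain ⟨p, hp, c, hc, hpc⟩ := Submodule.mem_sup.mp hm
        have h1 : a ^ m * x ∈ Ideal.span {t} := by
          rw [← hpc, add_mul, (hx p).mp hp, zero_add]
          exact Ideal.mul_mem_right _ _ hc
        have h2 : Ideal.Quotient.mk (Ideal.span {t}) (a * x) ^ (m + 1) = 0 := by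
          rw [← map_pow, Ideal.Quotient.eq_zero_iff_mem, mul_pow, pow_succ a, pow_succ' x,
            show a ^ m * a * (x * x ^ m) = a ^ m * x * (a * x ^ m) by ring]
          exact Ideal.mul_mem_right _ _ h1
        exact Ideal.Quotient.eq_zero_iff_mem.mp (IsReduced.eq_zero _ ⟨_, h2⟩)
      by_cases hu : IsUnit x
      · refine le_antisymm ((Ideal.span_singleton_le_iff_mem _).mpr htm) fun a ha => ?_
        have := key a ha
        rwa [mul_comm, Ideal.unit_mul_mem_iff_mem _ hu] at this
      · refine absurd ?_ hxt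
        have h2 := key x hu
        exact Ideal.Quotient.eq_zero_iff_mem.mp (IsReduced.eq_zero _ ⟨2, by
          rw [← map_pow, Ideal.Quotient.eq_zero_iff_mem, pow_two]; exact h2⟩)

/-- The global form. -/
theorem unique_generization {B : Type u} [CommRing B] [IsNoetherianRing B] {t : B} (ht : IsSMulRegular B t)
    [IsReduced (B ⧸ Ideal.span {t})] {P M : Ideal B} [M.IsPrime] (hP : P ∈ minimalPrimes B) (hPM : P ≤ M) (htP : t ∉ P)
    (htM : t ∈ M) (hQ : ∀ Q : Ideal B, Q.IsPrime → P ≤ Q → t ∈ Q → Q ≤ M → Q = M) :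
    (∀ Q : Ideal B, Q.IsPrime → t ∈ Q → Q ≤ M → Q = M) ∧
      ∀ Q : Ideal B, Q.IsPrime → t ∉ Q → Q ≤ M → Q = P := by
  let S := Localization.AtPrime M
  haveI : IsNoetherianRing S := IsLocalization.isNoetherianRing M.primeCompl S inferInstance
  haveI hPp : P.IsPrime := hP.1.1
  let τ := algebraMap B S t
  have hτ : IsSMulRegular S τ := IsSMulRegular.of_flat ht
  have hdis : ∀ Q : Ideal B, Q ≤ M → Disjoint (M.primeCompl : Set B) Q := fun Q h =>
    Set.disjoint_left.mpr fun a ha ha' => ha (h ha')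
  have hcm : ∀ Q : Ideal B, Q.IsPrime → Q ≤ M → Ideal.comap (algebraMap B S) (Q.map (algebraMap B S)) = Q :=
    fun Q hQp h => IsLocalization.comap_map_of_isPrime_disjoint M.primeCompl S hQp (hdis Q h)
  have hmM : M.map (algebraMap B S) = maximalIdeal S := Localization.AtPrime.map_eq_maximalIdeal
  haveI : IsReduced (S ⧸ Ideal.span {τ}) := by
    rw [← Ideal.isRadical_iff_quotient_reduced]
    intro z hz
    obtain ⟨m, hm⟩ := hz
    obtain ⟨a, s, rfl⟩ := IsLocalization.exists_mk'_eq M.primeCompl z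
    rw [← Set.image_singleton, ← Ideal.map_span, ← IsLocalization.mk'_pow,
      IsLocalization.mk'_mem_map_algebraMap_iff M.primeCompl S] at hm
    obtain ⟨c, hc, hca⟩ := hm
    rw [← Set.image_singleton, ← Ideal.map_span, IsLocalization.mk'_mem_map_algebraMap_iff M.primeCompl S]
    refine ⟨c, hc, ?_⟩
    have h2 : Ideal.Quotient.mk (Ideal.span {t}) (c * a) ^ (m + 1) = 0 := by
      rw [← map_pow, Ideal.Quotient.eq_zero_iff_mem, mul_pow, pow_succ' c, pow_succ a,
        show c * c ^ m * (a ^ m * a) = c * a ^ m * (c ^ m * a) by ring]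
      exact Ideal.mul_mem_right _ _ hca
    exact Ideal.Quotient.eq_zero_iff_mem.mp (IsReduced.eq_zero _ ⟨_, h2⟩)
  have hP' : P.map (algebraMap B S) ∈ minimalPrimes S := by
    refine ⟨⟨IsLocalization.isPrime_of_isPrime_disjoint M.primeCompl S P hPp (hdis P hPM), bot_le⟩, ?_⟩
    intro Q hQm hle
    haveI := hQm.1
    have h1 : Q.comap (algebraMap B S) ≤ P := by
      rw [← hcm P hPp hPM]; exact Ideal.comap_mono hle
    have h2 : P ≤ Q.comap (algebraMap B S) := hP.2 ⟨inferInstance, bot_le⟩ h1
    exact Ideal.map_le_iff_le_comap.mpr h2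
  have hm : Ideal.span {τ} = maximalIdeal S := by
    refine span_eq_maximalIdeal (hmM ▸ Ideal.mem_map_of_mem _ htM) hτ hP' fun Q hQp hle hτQ => ?_
    have h1 : Q.comap (algebraMap B S) ≤ M :=
      (Ideal.comap_mono (IsLocalRing.le_maximalIdeal hQp.ne_top)).trans
        (Localization.AtPrime.comap_maximalIdeal).le
    have h2 := hQ _ (Ideal.IsPrime.comap _) (Ideal.map_le_iff_le_comap.mp hle) hτQ h1
    rw [← IsLocalization.map_comap M.primeCompl S Q, ← hmM]
    exact congrArg (Ideal.map (algebraMap B S)) h2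
  refine ⟨fun Q hQp htQ hQM => ?_, fun Q hQp htQ hQM => ?_⟩
  · have h1 : Q.map (algebraMap B S) = maximalIdeal S := by
      refine le_antisymm (hmM ▸ Ideal.map_mono hQM) (hm ▸ ?_)
      exact (Ideal.span_singleton_le_iff_mem _).mpr (Ideal.mem_map_of_mem _ htQ)
    have h2 := congrArg (Ideal.comap (algebraMap B S)) h1
    exact ((hcm Q hQp hQM).symm.trans h2).trans Localization.AtPrime.comap_maximalIdeal
  · haveI := IsLocalization.isPrime_of_isPrime_disjoint M.primeCompl S Q hQp (hdis Q hQM)
    haveI := hP'.1.1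
    have h1 : τ ∉ Q.map (algebraMap B S) := fun h => htQ (by
      rw [← hcm Q hQp hQM]; exact h)
    have h2 : τ ∉ P.map (algebraMap B S) := fun h => htP (by
      rw [← hcm P hPp hPM]; exact h)
    rw [← hcm Q hQp hQM, ← hcm P hPp hPM, eq_bot_of_notMem hm h1, eq_bot_of_notMem hm h2]

end CompSemiLib
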