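import Groth.Agent.CompSemiLib.Alg
import Mathlib

/-!
# Components of the generic fibre over a DVR with reduced special fibre
-/

set_option autoImplicit false
set_option backward.isDefEq.respectTransparency false
set_option backward.isDefEq.respectTransparency.types false
set_option linter.style.haveILetI false
universe u

open CategoryTheory CategoryTheory.Limits AlgebraicGeometry TopologicalSpace IsLocalRing TensorProduct

noncomputable section

namespace CompSemiLib

variable {A : Type u} [CommRing A] [IsDomain A] [IsDiscreteValuationRing A]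

/-- The residue map as a morphism. -/
abbrev resSpec (A : Type u) [CommRing A] [IsLocalRing A] :
    Spec (CommRingCat.of (A ⧸ maximalIdeal A)) ⟶ Spec (CommRingCat.of A) :=
  Spec.map (CommRingCat.ofHom (algebraMap A (A ⧸ maximalIdeal A)))

/-- The generic point. -/
abbrev genPt (A : Type u) [CommRing A] [IsDomain A] : Spec (CommRingCat.of A) :=
  (⟨⊥, Ideal.isPrime_bot⟩ : PrimeSpectrum A)

variable {W : Scheme.{u}} (b : W ⟶ Spec (CommRingCat.of A)) [Flat b] [LocallyOfFiniteType b]

/-- A point of the special fibre minimal above a component is generic and lies on that component only. -/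
theorem minimal_over_unique [IsReduced (pullback b (resSpec A))] {z c : W}
    (hz : b z = closedPoint A) (hc : b c = genPt A) (hmax : ∀ x, x ⤳ c → x = c) (hcz : c ⤳ z)
    (hmin : ∀ w, b w = closedPoint A → c ⤳ w → w ⤳ z → w = z) :
    (∀ w, b w = closedPoint A → w ⤳ z → w = z) ∧ ∀ c', b c' = genPt A → c' ⤳ z → c' = c := by
  obtain ⟨U, hU, hzU, -⟩ := exists_isAffineOpen_mem_and_subset (X := W) (x := z) (U := ⊤) trivial
  obtain ⟨φ, hφ⟩ := Spec.map_surjective (hU.fromSpec ≫ b)
  have hflat : φ.hom.Flat := (HasRingHomProperty.Spec_iff (P := @Flat)).mp (hφ ▸ inferInstance)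
  have hft : φ.hom.FiniteType :=
    (HasRingHomProperty.Spec_iff (P := @LocallyOfFiniteType)).mp (hφ ▸ inferInstance)
  letI := φ.hom.toAlgebra
  haveI : Module.Flat A Γ(W, U) := hflat
  haveI : Algebra.FiniteType A Γ(W, U) := hft
  haveI : IsNoetherianRing Γ(W, U) := Algebra.FiniteType.isNoetherianRing A _
  obtain ⟨ϖ, hϖ⟩ := IsDiscreteValuationRing.exists_irreducible A
  let t : Γ(W, U) := φ.hom ϖ
  have ht : IsSMulRegular Γ(W, U) t := IsSMulRegular.of_flat (IsSMulRegular.of_ne_zero hϖ.ne_zero)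
  have hm : maximalIdeal A = Ideal.span {ϖ} := hϖ.maximalIdeal_eq
  have hbval : ∀ Q : PrimeSpectrum Γ(W, U),
      (b (hU.fromSpec Q) : PrimeSpectrum A).asIdeal = Q.asIdeal.comap φ.hom := fun Q => by
    rw [← Scheme.Hom.comp_apply, ← hφ]
    rfl
  have hs : ∀ Q : PrimeSpectrum Γ(W, U), b (hU.fromSpec Q) = closedPoint A ↔ t ∈ Q.asIdeal := fun Q => by
    refine ⟨fun h => ?_, fun h => ?_⟩
    · have h1 : ϖ ∈ (b (hU.fromSpec Q) : PrimeSpectrum A).asIdeal := by
        rw [h]; exact hm.ge (Ideal.mem_span_singleton_self ϖ)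
      rw [hbval] at h1
      exact h1
    · refine PrimeSpectrum.ext (le_antisymm (IsLocalRing.le_maximalIdeal (PrimeSpectrum.isPrime _).ne_top) ?_)
      rw [hbval]
      exact hm.le.trans ((Ideal.span_singleton_le_iff_mem _).mpr h)
  have hη : ∀ Q : PrimeSpectrum Γ(W, U), b (hU.fromSpec Q) = genPt A ↔ t ∉ Q.asIdeal := fun Q => by
    refine ⟨fun h ht' => ?_, fun h => PrimeSpectrum.ext (?_ : _ = (⊥ : Ideal A))⟩
    · have h1 := congrArg PrimeSpectrum.asIdeal (h.symm.trans ((hs Q).mpr ht'))
      exact hϖ.ne_zero (show ϖ ∈ (⊥ : Ideal A) from h1.ge (hm.ge (Ideal.mem_span_singleton_self ϖ)))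
    · by_contra hne
      haveI := (b (hU.fromSpec Q) : PrimeSpectrum A).isPrime
      have h2 : ((b (hU.fromSpec Q) : PrimeSpectrum A).asIdeal).IsMaximal := Ideal.IsPrime.isMaximal ‹_› hne
      have h3 := IsLocalRing.eq_maximalIdeal h2
      rw [hbval] at h3
      exact h (h3.ge (hm.ge (Ideal.mem_span_singleton_self ϖ)))
  haveI : _root_.IsReduced (Γ(W, U) ⧸ Ideal.span {t}) := by
    let κ := A ⧸ maximalIdeal A
    have hsm : Spec.map (CommRingCat.ofHom (algebraMap A Γ(W, U))) = hU.fromSpec ≫ b := hφ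
    haveI : IsReduced (pullback (hU.fromSpec ≫ b) (resSpec A)) :=
      isReduced_of_isOpenImmersion
        ((pullbackRightPullbackFstIso b (resSpec A) hU.fromSpec).inv ≫ pullback.snd hU.fromSpec _)
    haveI : IsReduced (pullback (Spec.map (CommRingCat.ofHom (algebraMap A Γ(W, U)))) (resSpec A)) :=
      isReduced_of_isOpenImmersion (pullback.congrHom hsm rfl).hom
    haveI : IsReduced (Spec (CommRingCat.of (Γ(W, U) ⊗[A] κ))) :=
      isReduced_of_isOpenImmersion (pullbackSpecIso A Γ(W, U) κ).inv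
    haveI : _root_.IsReduced (Γ(W, U) ⊗[A] κ) :=
      (affine_isReduced_iff (CommRingCat.of (Γ(W, U) ⊗[A] κ))).mp inferInstance
    have he := (Algebra.TensorProduct.quotIdealMapEquivTensorQuot Γ(W, U) (maximalIdeal A)).toRingEquiv
    have := isReduced_of_injective he he.injective
    rwa [hm, Ideal.map_span, Set.image_singleton] at this
  have hsp : ∀ Q Q' : PrimeSpectrum Γ(W, U), hU.fromSpec Q ⤳ hU.fromSpec Q' ↔ Q.asIdeal ≤ Q'.asIdeal := fun Q Q' =>
    hU.fromSpec.isOpenEmbedding.isInducing.specializes_iff.trans (PrimeSpectrum.le_iff_specializes Q Q').symm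
  obtain ⟨M, rfl⟩ : z ∈ Set.range hU.fromSpec := by rw [hU.range_fromSpec]; exact hzU
  have hlift : ∀ x, x ⤳ hU.fromSpec M → ∃ Q : PrimeSpectrum Γ(W, U), hU.fromSpec Q = x := fun x hx => by
    have : x ∈ Set.range hU.fromSpec := by rw [hU.range_fromSpec]; exact hx.mem_open U.2 hzU
    exact this
  obtain ⟨P, rfl⟩ := hlift c hcz
  have hPmin : (P : PrimeSpectrum Γ(W, U)).asIdeal ∈ minimalPrimes Γ(W, U) := by
    refine ⟨⟨P.isPrime, bot_le⟩, fun Q hQ hle => ?_⟩
    have := hU.fromSpec.isOpenEmbedding.injective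
      (hmax (hU.fromSpec (⟨Q, hQ.1⟩ : PrimeSpectrum Γ(W, U))) ((hsp _ _).mpr hle))
    exact (congrArg PrimeSpectrum.asIdeal this).ge
  obtain ⟨h1, h2⟩ := unique_generization ht hPmin ((hsp P M).mp hcz) ((hη P).mp hc) ((hs M).mp hz)
    (fun Q hQp hPQ htQ hQM => congrArg PrimeSpectrum.asIdeal
      (hU.fromSpec.isOpenEmbedding.injective (hmin (hU.fromSpec (⟨Q, hQp⟩ : PrimeSpectrum Γ(W, U)))
        ((hs _).mpr htQ) ((hsp _ _).mpr hPQ) ((hsp _ _).mpr hQM))))
  refine ⟨fun w hw hwz => ?_, fun c' hc' hc'z => ?_⟩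
  · obtain ⟨Q, rfl⟩ := hlift w hwz
    exact congrArg hU.fromSpec (PrimeSpectrum.ext (h1 _ Q.isPrime ((hs Q).mp hw) ((hsp Q M).mp hwz)))
  · obtain ⟨Q, rfl⟩ := hlift c' hc'z
    exact congrArg hU.fromSpec (PrimeSpectrum.ext (h2 _ Q.isPrime ((hη Q).mp hc') ((hsp Q M).mp hc'z)))

/-- The generic fibre has at most as many components as a reduced special fibre. -/
theorem encard_generic_le_special [IsReduced (pullback b (resSpec A))] [IsProper b]
    (F : Type u) [Field F] [Algebra A F] [IsFractionRing A F] :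
    (irreducibleComponents ↥(pullback b (Spec.map (CommRingCat.ofHom (algebraMap A F))))).encard ≤
      (irreducibleComponents ↥(pullback b (resSpec A))).encard := by
  let j := Spec.map (CommRingCat.ofHom (algebraMap A F))
  let m := pullback.fst b j
  let n := pullback.fst b (resSpec A)
  haveI : IsPreimmersion j := IsPreimmersion.of_isLocalization (R := A) (S := F) (nonZeroDivisors A)
  haveI : IsClosedImmersion (resSpec A) := IsClosedImmersion.spec_of_surjective _ Ideal.Quotient.mk_surjective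
  have hj : Set.range j = {genPt A} := by
    refine Set.eq_singleton_iff_unique_mem.mpr ⟨⟨IsLocalRing.closedPoint F, ?_⟩, ?_⟩
    · refine PrimeSpectrum.ext ?_
      show (maximalIdeal F).comap (algebraMap A F) = ⊥
      rw [maximalIdeal_eq_bot, ← RingHom.ker_eq_comap_bot,
        (RingHom.injective_iff_ker_eq_bot _).mp (IsFractionRing.injective A F)]
    · rintro _ ⟨z, rfl⟩
      refine PrimeSpectrum.ext ?_
      show (z : PrimeSpectrum F).asIdeal.comap (algebraMap A F) = ⊥
      rw [Ideal.eq_bot_of_prime (z : PrimeSpectrum F).asIdeal, ← RingHom.ker_eq_comap_bot,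
        (RingHom.injective_iff_ker_eq_bot _).mp (IsFractionRing.injective A F)]
  have hres : Set.range (resSpec A) = {closedPoint A} := by
    obtain ⟨M₀, hM₀⟩ := Ideal.exists_maximal (A ⧸ maximalIdeal A)
    refine Set.eq_singleton_iff_unique_mem.mpr ⟨⟨(⟨M₀, hM₀.isPrime⟩ : PrimeSpectrum (A ⧸ maximalIdeal A)), ?_⟩, ?_⟩
    · refine PrimeSpectrum.ext (le_antisymm (IsLocalRing.le_maximalIdeal (PrimeSpectrum.isPrime _).ne_top) fun a ha => ?_)
      show algebraMap A (A ⧸ maximalIdeal A) a ∈ M₀
      rw [Ideal.Quotient.algebraMap_eq, (Ideal.Quotient.eq_zero_iff_mem (I := maximalIdeal A)).mpr ha]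
      exact zero_mem _
    · rintro _ ⟨z, rfl⟩
      refine PrimeSpectrum.ext (le_antisymm (IsLocalRing.le_maximalIdeal (PrimeSpectrum.isPrime _).ne_top) fun a ha => ?_)
      show algebraMap A (A ⧸ maximalIdeal A) a ∈ (z : PrimeSpectrum (A ⧸ maximalIdeal A)).asIdeal
      rw [Ideal.Quotient.algebraMap_eq, (Ideal.Quotient.eq_zero_iff_mem (I := maximalIdeal A)).mpr ha]
      exact zero_mem _
  have hm : Set.range m = b ⁻¹' {genPt A} := (Scheme.Pullback.range_fst _ _).trans (congrArg _ hj)
  have hn : Set.range n = b ⁻¹' {closedPoint A} := (Scheme.Pullback.range_fst _ _).trans (congrArg _ hres)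
  have hgen : ∀ T : irreducibleComponents ↥(pullback b j), ∃ g, IsGenericPoint g T.1 := fun T =>
    QuasiSober.sober T.2.1 (isClosed_of_mem_irreducibleComponents T.1 T.2)
  choose g hg using hgen
  have hmax : ∀ T, ∀ x, x ⤳ m (g T) → x = m (g T) := fun T x hx => by
    have h1 : b x = genPt A := by
      have h2 : b x ⤳ genPt A := by
        have h3 := hx.map b.continuous
        rwa [show b (m (g T)) = genPt A from hm.le ⟨g T, rfl⟩] at h3
      exact PrimeSpectrum.ext (le_bot_iff.mp ((PrimeSpectrum.le_iff_specializes _ _).mpr h2))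
    obtain ⟨g', rfl⟩ := hm.ge h1
    have h3 : g' ⤳ g T := m.isEmbedding.isInducing.specializes_iff.mp hx
    have h4 : T.1 ⊆ closure {g'} := (hg T).def ▸ closure_minimal
      (Set.singleton_subset_iff.mpr h3.mem_closure) isClosed_closure
    exact congrArg m (h3.antisymm ((hg T).specializes (T.2.2 isIrreducible_singleton.closure h4 (subset_closure rfl)))).eq
  have hex : ∀ T, ∃ v, m (g T) ⤳ n v ∧ ∀ v', m (g T) ⤳ n v' → v' ⤳ v → v' = v := by
    intro T
    have hcl : IsClosed (b '' closure {m (g T)}) := b.isClosedMap _ isClosed_closure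
    have hmem : (closedPoint A : Spec (CommRingCat.of A)) ∈ b '' closure {m (g T)} := by
      refine Specializes.mem_closed ?_ hcl ⟨m (g T), subset_closure rfl, hm.le ⟨g T, rfl⟩⟩
      exact (PrimeSpectrum.le_iff_specializes _ _).mp bot_le
    obtain ⟨w, hw, hbw⟩ := hmem
    obtain ⟨v₀, rfl⟩ := hn.ge hbw
    have hKc : IsClosed (n ⁻¹' closure {m (g T)}) := isClosed_closure.preimage n.continuous
    obtain ⟨T₁, hT₁, hv₁⟩ : ∃ T₁ ∈ irreducibleComponents ↥(n ⁻¹' closure {m (g T)}), ⟨v₀, hw⟩ ∈ T₁ :=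
      ⟨_, irreducibleComponent_mem_irreducibleComponents _, mem_irreducibleComponent⟩
    have hirr : IsIrreducible (Subtype.val '' T₁) := hT₁.1.image _ continuous_subtype_val.continuousOn
    obtain ⟨v, hv⟩ := QuasiSober.sober hirr
      (hKc.isClosedEmbedding_subtypeVal.isClosedMap _ (isClosed_of_mem_irreducibleComponents T₁ hT₁))
    obtain ⟨⟨v', hv'K⟩, hv'T, hv'eq⟩ := hv.mem
    refine ⟨v, ?_, fun u hu huv => ?_⟩
    · rw [specializes_iff_mem_closure]
      exact hv'eq ▸ hv'K
    · have huK : u ∈ n ⁻¹' closure {m (g T)} := specializes_iff_mem_closure.mp hu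
      let u' : ↥(n ⁻¹' closure {m (g T)}) := ⟨u, huK⟩
      have h5 : T₁ ⊆ closure {u'} := fun x hx => by
        rw [closure_subtype, Set.image_singleton]
        exact (huv.trans (hv.specializes ⟨x, hx, rfl⟩)).mem_closure
      have h6 : u' ∈ T₁ := hT₁.2 isIrreducible_singleton.closure h5 (subset_closure rfl)
      exact (huv.antisymm (hv.specializes ⟨u', h6, rfl⟩)).eq
  choose v hv1 hv2 using hex
  have key := fun T => minimal_over_unique b (z := n (v T)) (c := m (g T)) (hn.le ⟨v T, rfl⟩) (hm.le ⟨g T, rfl⟩)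
    (hmax T) (hv1 T) fun w hw h1 h2 => by
      obtain ⟨v', rfl⟩ := hn.ge hw
      exact congrArg n (hv2 T v' h1 (n.isEmbedding.isInducing.specializes_iff.mp h2))
  have hcomp : ∀ T, closure {v T} ∈ irreducibleComponents ↥(pullback b (resSpec A)) := fun T => by
    refine ⟨isIrreducible_singleton.closure, fun S hS hle => ?_⟩
    obtain ⟨s, hs⟩ := QuasiSober.sober hS.closure isClosed_closure
    have h1 : s ⤳ v T := hs.specializes (subset_closure (hle (subset_closure rfl)))
    have h2 : s = v T := n.isEmbedding.injective ((key T).1 (n s) (hn.le ⟨s, rfl⟩) (h1.map n.continuous))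
    exact subset_closure.trans (h2 ▸ hs.def.ge)
  refine Function.Embedding.encard_le ⟨fun T => ⟨closure {v T}, hcomp T⟩, fun T T' h => ?_⟩
  have h1 : v T ⤳ v T' ∧ v T' ⤳ v T := by
    have h0 : closure {v T} = closure {v T'} := congrArg Subtype.val h
    exact ⟨specializes_iff_mem_closure.mpr (h0 ▸ subset_closure rfl),
      specializes_iff_mem_closure.mpr (h0.symm ▸ subset_closure rfl)⟩
  have h2 : v T = v T' := (h1.1.antisymm h1.2).eq
  have h3 : m (g T) = m (g T') := (key T').2 _ (hm.le ⟨g T, rfl⟩) (h2 ▸ hv1 T)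
  exact Subtype.ext ((hg T).def.symm.trans ((congrArg (fun x => closure {x}) (m.isEmbedding.injective h3)).trans (hg T').def))

end CompSemiLib
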