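import Groth.Agent.CompSemiLib.Dvr
import Groth.Agent.GISpreadLib.Count
import Groth.Agent.GISpreadLib.Cons
import Groth.Agent.ProperConnLib.Main
import Groth.Agent.SweepSix.Constr
import Groth.Agent.S0435

/-!
# Upper semicontinuity of the number of geometric components
-/

set_option autoImplicit false
set_option backward.isDefEq.respectTransparency false
set_option backward.isDefEq.respectTransparency.types false
set_option linter.style.haveILetI false
set_option maxHeartbeats 800000
universe u

open CategoryTheory CategoryTheory.Limits AlgebraicGeometry TopologicalSpace Topology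

noncomputable section

namespace CompSemiLib

/-- A continuous surjection from a space with finitely many components does not gain components. -/
theorem encard_le_of_surjective {α β : Type u} [TopologicalSpace α] [TopologicalSpace β] {m : α → β}
    (hm : Continuous m) (hs : Function.Surjective m) (hfin : (irreducibleComponents α).Finite) :
    (irreducibleComponents β).encard ≤ (irreducibleComponents α).encard := by
  refine (Set.encard_le_encard (t := (fun T => closure (m '' T)) '' irreducibleComponents α) ?_).trans
    (Set.encard_image_le _ _)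
  intro S hS
  have hcov : S ⊆ ⋃₀ ((fun T => closure (m '' T)) '' irreducibleComponents α) := by
    intro x _
    obtain ⟨a, rfl⟩ := hs x
    exact ⟨_, ⟨_, irreducibleComponent_mem_irreducibleComponents a, rfl⟩,
      subset_closure ⟨a, mem_irreducibleComponent, rfl⟩⟩
  obtain ⟨_, hz, hSz⟩ := isIrreducible_iff_sUnion_isClosed.mp hS.1
    (hfin.image (fun T => closure (m '' T))).toFinset
    (by
      intro z hz
      obtain ⟨T, -, rfl⟩ := (Set.Finite.mem_toFinset _).mp hz
      exact isClosed_closure) (by rwa [Set.Finite.coe_toFinset])
  obtain ⟨T, hT, rfl⟩ := (Set.Finite.mem_toFinset _).mp hz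
  exact ⟨T, hT, Set.Subset.antisymm (hS.2 ((hT.1.image m hm.continuousOn).closure) hSz) hSz⟩

/-- The geometric count is attained over a finite extension. -/
theorem exists_level_field {X : Scheme.{u}} {K : Type u} [Field K] (f₀ : X ⟶ Spec (CommRingCat.of K))
    [LocallyOfFiniteType f₀] [QuasiCompact f₀] :
    ∃ (F : Type u) (_ : Field F) (_ : Algebra K F) (_ : Module.Finite K F),
      (irreducibleComponents ↥(pullback f₀ (Spec.map (CommRingCat.ofHom (algebraMap K F))))).encard =
        (irreducibleComponents ↥(pullback f₀
          (Spec.map (CommRingCat.ofHom (algebraMap K (AlgebraicClosure K)))))).encard := by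
  obtain ⟨R', h, Z, hfin, hh, hc, -, -, H⟩ := GISpreadLib.exists_spreading f₀ (AlgebraicClosure K)
  haveI := hfin
  haveI : Algebra.IsIntegral K R' := Algebra.IsIntegral.of_finite K R'
  letI : Field R' := (isField_of_isIntegral_of_isField' (Field.toIsField K)).toField
  obtain ⟨hirr, hcov, hred, -⟩ := H R' (by simpa using hh)
  haveI := (GISpreadLib.finite_components f₀ (AlgebraicClosure K)).to_subtype
  exact ⟨R', inferInstance, inferInstance, hfin,
    GISpreadLib.encard_irreducibleComponents_of_family
      (fun W => (hc W).preimage (GISpreadLib.chgX f₀ R' R').continuous) hirr hcov hred⟩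

variable {X Y : Scheme.{u}} (f : X ⟶ Y)

/-- The number of components of the geometric fibre. -/
def nComp (y : Y) : ℕ∞ := (irreducibleComponents ↥(MoreMor.geomFiber f y)).encard

theorem isReduced_pullback {K : Type u} [Field K] (p : Spec (CommRingCat.of K) ⟶ Y) {y : Y}
    (hy : p (IsLocalRing.closedPoint K) = y) [GeometricallyReduced (f.fiberToSpecResidueField y)] :
    IsReduced (pullback f p) := by
  subst hy
  have hp : Spec.map (Y.descResidueField (Scheme.stalkClosedPointTo p)) ≫ Y.fromSpecResidueField _ = p :=
    Scheme.descResidueField_stalkClosedPointTo_fromSpecResidueField K Y p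
  haveI : IsReduced (pullback (pullback.snd f (Y.fromSpecResidueField (p (IsLocalRing.closedPoint K))))
      (Spec.map (Y.descResidueField (Scheme.stalkClosedPointTo p)))) :=
    GeometricallyReduced.geometrically_isReduced (f := f.fiberToSpecResidueField (p (IsLocalRing.closedPoint K)))
      (Spec.map (Y.descResidueField (Scheme.stalkClosedPointTo p))) _ _ (.of_hasPullback _ _)
  exact isReduced_of_isOpenImmersion ((pullback.congrHom rfl hp.symm).hom ≫
    (pullbackLeftPullbackSndIso f (Y.fromSpecResidueField (p (IsLocalRing.closedPoint K))) _).inv)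

theorem finite_components_pullback [LocallyOfFiniteType f] [QuasiCompact f] {K : Type u} [Field K]
    (p : Spec (CommRingCat.of K) ⟶ Y) : (irreducibleComponents ↥(pullback f p)).Finite := by
  haveI : IsLocallyNoetherian (pullback f p) := LocallyOfFiniteType.isLocallyNoetherian (pullback.snd f p)
  haveI : CompactSpace (pullback f p : Scheme.{u}) := QuasiCompact.compactSpace_of_compactSpace (pullback.snd f p)
  haveI : IsNoetherian (pullback f p) := ⟨⟩
  exact NoetherianSpace.finite_irreducibleComponents

/-- The number of geometric components does not increase under specialization to a reduced fibre. -/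
theorem nComp_le [IsLocallyNoetherian Y] [IsProper f] [Flat f] (y : Y)
    [GeometricallyReduced (f.fiberToSpecResidueField y)] {y' : Y} (hsp : y' ⤳ y) : nComp f y' ≤ nComp f y := by
  rcases eq_or_ne y y' with rfl | hne
  · exact le_rfl
  let p₀ : Spec (CommRingCat.of (Y.residueField y')) ⟶ Y := Y.fromSpecResidueField y'
  obtain ⟨F, _, _, _, hF⟩ := exists_level_field (pullback.snd f p₀)
  obtain ⟨A, h, hA, hcl, hgen⟩ := ProperConnLib.exists_dvr_extension hsp hne F
  haveI := hA
  letI : Field (A ⧸ IsLocalRing.maximalIdeal A) := Ideal.Quotient.field _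
  let b := pullback.snd f h
  haveI : IsProper b := MorphismProperty.pullback_snd _ _ inferInstance
  haveI : Flat b := MorphismProperty.pullback_snd _ _ inferInstance
  have hres : resSpec A (IsLocalRing.closedPoint (A ⧸ IsLocalRing.maximalIdeal A)) = IsLocalRing.closedPoint A :=
    haveI : IsLocalHom (algebraMap A (A ⧸ IsLocalRing.maximalIdeal A)) :=
      IsLocalHom.of_surjective _ Ideal.Quotient.mk_surjective
    IsLocalRing.comap_closedPoint (algebraMap A (A ⧸ IsLocalRing.maximalIdeal A))
  have hy : (resSpec A ≫ h) (IsLocalRing.closedPoint (A ⧸ IsLocalRing.maximalIdeal A)) = y := by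
    rw [Scheme.Hom.comp_apply, hres, hcl]
  haveI := isReduced_pullback f (resSpec A ≫ h) hy
  haveI : IsReduced (pullback b (resSpec A)) :=
    isReduced_of_isOpenImmersion (pullbackLeftPullbackSndIso f h (resSpec A)).hom
  have hG : nComp f y' = (irreducibleComponents ↥(pullback b (Spec.map (CommRingCat.ofHom (algebraMap A F))))).encard := by
    let sL := Spec.map (CommRingCat.ofHom (algebraMap (Y.residueField y') (AlgebraicClosure (Y.residueField y'))))
    have h1 := (GISpreadLib.sameComp_geomFiber f _ (sL ≫ p₀) y' (by
      rw [Scheme.Hom.comp_apply]; exact Y.fromSpecResidueField_apply y' _)).1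
    have h2 := (GISpreadLib.sameComp_of_iso (pullbackLeftPullbackSndIso f p₀ sL)).1
    have h3 := (GISpreadLib.sameComp_of_iso (pullbackLeftPullbackSndIso f p₀
      (Spec.map (CommRingCat.ofHom (algebraMap (Y.residueField y') F))) ≪≫ pullback.congrHom rfl hgen.symm ≪≫
        (pullbackLeftPullbackSndIso f h (Spec.map (CommRingCat.ofHom (algebraMap A F)))).symm)).1
    exact h1.symm.trans (h2.symm.trans (hF.symm.trans h3))
  rw [hG]
  refine (encard_generic_le_special b F).trans ?_
  let K := AlgebraicClosure (A ⧸ IsLocalRing.maximalIdeal A)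
  let sK := Spec.map (CommRingCat.ofHom (algebraMap (A ⧸ IsLocalRing.maximalIdeal A) K))
  haveI : Surjective sK := ⟨fun x => ⟨IsLocalRing.closedPoint K, Subsingleton.elim (α := PrimeSpectrum _) _ _⟩⟩
  let m := pullback.fst (pullback.snd b (resSpec A)) sK
  haveI : Surjective m := MorphismProperty.pullback_fst _ _ inferInstance
  have h4 : (irreducibleComponents ↥(pullback (pullback.snd b (resSpec A)) sK)).encard = nComp f y := by
    refine ((GISpreadLib.sameComp_of_iso (pullbackLeftPullbackSndIso b (resSpec A) sK ≪≫
      pullbackLeftPullbackSndIso f h _)).1).trans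
      (GISpreadLib.sameComp_geomFiber f K ((sK ≫ resSpec A) ≫ h) y ?_).1
    rw [Scheme.Hom.comp_apply, Scheme.Hom.comp_apply,
      show sK (IsLocalRing.closedPoint K) = IsLocalRing.closedPoint _ from
        Subsingleton.elim (α := PrimeSpectrum _) _ _, hres, hcl]
  rw [← h4]
  exact encard_le_of_surjective m.continuous m.surjective (finite_components_pullback _ sK)

theorem isOpen_nComp_lt [IsNoetherian Y] [IsProper f] [Flat f]
    (hred : ∀ y, GeometricallyReduced (f.fiberToSpecResidueField y)) (n : ℕ∞) : IsOpen {y | nComp f y < n} := by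
  have hc : IsLocallyConstructible {y | nComp f y < n} := GISpreadLib.isLocallyConstructible_of_nhd fun y => by
    obtain ⟨W, hW, H⟩ := GISpreadLib.exists_nhd_sameComp f y
    refine ⟨W, hW, fun y' hy' hsp => ?_⟩
    show nComp f y' < n ↔ nComp f y < n
    rw [nComp, nComp, (H y' hy' hsp).1]
  refine SweepSix.isOpen_of_stableUnderGeneralization hc.isConstructible fun y y' hsp hy => ?_
  haveI := hred y
  exact (nComp_le f y hsp).trans_lt hy

theorem upperSemicontinuous_count [IsNoetherian Y] [JacobsonSpace Y] [IsProper f] [Flat f]
    [LocallyOfFinitePresentation f]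
    (hred : ∀ y : Y, IsClosed ({y} : Set Y) → GeometricallyReduced (f.fiberToSpecResidueField y)) :
    UpperSemicontinuous (fun y : Y =>
      Nat.card ↥(irreducibleComponents (↥(pullback f
        (Spec.map (CommRingCat.ofHom (algebraMap (Y.residueField y) (AlgebraicClosure (Y.residueField y)))) ≫
          Y.fromSpecResidueField y)) : Type u))) := by
  have hall : ∀ y, GeometricallyReduced (f.fiberToSpecResidueField y) := by
    by_contra hcon
    push Not at hcon
    obtain ⟨y, hy⟩ := hcon
    obtain ⟨z, hz, hzc⟩ := nonempty_inter_closedPoints (Z := {y | GeometricallyReduced (f.fiberToSpecResidueField y)}ᶜ)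
      ⟨y, hy⟩ (Groth.Agent.S0435.result f).isClosed_compl.isLocallyClosed
    exact hz (hred z hzc)
  refine upperSemicontinuous_iff_isOpen_preimage.mpr fun n => ?_
  convert isOpen_nComp_lt f hall (n : ℕ∞) using 1
  ext y
  show Nat.card _ < n ↔ nComp f y < n
  rw [nComp, ← (GISpreadLib.sameComp_geomFiber f _
    (Spec.map (CommRingCat.ofHom (algebraMap (Y.residueField y) (AlgebraicClosure (Y.residueField y)))) ≫
      Y.fromSpecResidueField y) y (by rw [Scheme.Hom.comp_apply]; exact Y.fromSpecResidueField_apply y _)).1,
    ← (finite_components_pullback f _).cast_ncard_eq, Nat.cast_lt, Nat.card_coe_set_eq]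

end CompSemiLib
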